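import Groth.Agent.AssPts.Scheme
import Groth.Agent.QCohBase.Criteria

/-!
# The structure module
-/

noncomputable section

universe u

open CategoryTheory AlgebraicGeometry Opposite TopologicalSpace Groth.Agent.QCohBase

namespace Groth.Agent.AssPts

/-- The structure sheaf is quasi-coherent. -/
theorem isQuasicoherent_structureModule (X : Scheme.{u}) :
    (Coh.structureModule X).IsQuasicoherent := by
  refine isQuasicoherent_of_forall_localizesOn fun U hU f => ?_
  haveI := hU.isLocalization_basicOpen f
  letI := (X.presheaf.map (homOfLE (X.basicOpen_le f)).op).hom.toAlgebra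
  refine ⟨fun x => ?_, fun y hy => ?_⟩
  · obtain ⟨⟨y, ⟨_, n, rfl⟩⟩, hy⟩ := IsLocalization.surj (Submonoid.powers f)
      (show Γ(X, X.basicOpen f) from x)
    refine ⟨n, y, ?_⟩
    change ores (X.basicOpen_le f) y = ores (X.basicOpen_le f) f ^ n * (show Γ(X, X.basicOpen f) from x)
    rw [mul_comm, ← map_pow]
    exact hy.symm
  · change ores (X.basicOpen_le f) y = 0 at hy
    obtain ⟨⟨_, n, rfl⟩, hn⟩ := (IsLocalization.map_eq_zero_iff (Submonoid.powers f)
      Γ(X, X.basicOpen f) _).1 hy
    exact ⟨n, hn⟩

end Groth.Agent.AssPts
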