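import Groth.Agent.QCohBase.Finite
import Groth.Agent.WeakAss.Basic
import Mathlib.RingTheory.Ideal.AssociatedPrime.Basic
import Groth.Prelude.Def_FDesc

/-!
# Associated and weakly associated points of quasi-coherent modules

For a quasi-coherent module `M`, an affine open `U` and `x ∈ U`: the stalk at `x` is computed by the
sections on `U` (`exists_germ_smul_eq`, `germ_eq_zero_iff`), hence `x` is (weakly) associated to `M`
iff the prime of `x` is (weakly) associated to `Γ(M, U)`.
-/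

noncomputable section

universe u

open CategoryTheory AlgebraicGeometry Opposite TopologicalSpace Groth.Agent.QCohBase

namespace Groth.Agent.AssPts

variable {X : Scheme.{u}} (M : X.Modules) {U : X.Opens}

lemma germ_smul' (x : X) (hx : x ∈ U) (r : Γ(X, U)) (s : Γ(M, U)) :
    M.presheaf.germ U x hx (r • s) = X.presheaf.germ U x hx r • M.presheaf.germ U x hx s :=
  PresheafOfModules.germ_smul (R := X.presheaf) M.val x U hx r s

lemma germ_mres (x : X) {V : X.Opens} (h : V ≤ U) (hx : x ∈ V) (s : Γ(M, U)) :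
    M.presheaf.germ V x hx (mres M h s) = M.presheaf.germ U x (h hx) s :=
  TopCat.Presheaf.germ_res_apply M.presheaf (homOfLE h) x hx s

variable (hU : IsAffineOpen U) (x : X) (hx : x ∈ U)

include hU in
lemma notMem_prime_iff (g : Γ(X, U)) :
    g ∉ (hU.primeIdealOf ⟨x, hx⟩).asIdeal ↔ IsUnit (X.presheaf.germ U x hx g) := by
  rw [← mem_basicOpen_iff_notMem_prime hU x hx g]
  exact X.mem_basicOpen g x hx

include hU in
lemma mem_prime_iff (g : Γ(X, U)) :
    g ∈ (hU.primeIdealOf ⟨x, hx⟩).asIdeal ↔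
      X.presheaf.germ U x hx g ∈ IsLocalRing.maximalIdeal (X.presheaf.stalk x) := by
  rw [IsLocalRing.mem_maximalIdeal, mem_nonunits_iff, ← notMem_prime_iff hU x hx, not_not]

include hU in
/-- Every element of the local ring is a quotient of sections on `U`. -/
lemma exists_ringGerm_mul_eq (a : X.presheaf.stalk x) :
    ∃ g r : Γ(X, U), g ∉ (hU.primeIdealOf ⟨x, hx⟩).asIdeal ∧
      a * X.presheaf.germ U x hx g = X.presheaf.germ U x hx r := by
  letI := (X.presheaf.germ U x hx).hom.toAlgebra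
  haveI : IsLocalization.AtPrime (X.presheaf.stalk x) (hU.primeIdealOf ⟨x, hx⟩).asIdeal :=
    hU.isLocalization_stalk ⟨x, hx⟩
  obtain ⟨⟨r, g, hg⟩, h⟩ := IsLocalization.surj (hU.primeIdealOf ⟨x, hx⟩).asIdeal.primeCompl a
  exact ⟨g, r, hg, h⟩

variable [M.IsQuasicoherent]

include hU in
/-- Every element of the stalk is a quotient of a section on `U`. -/
lemma exists_germ_smul_eq (z : M.presheaf.stalk x) :
    ∃ (g : Γ(X, U)) (s : Γ(M, U)), g ∉ (hU.primeIdealOf ⟨x, hx⟩).asIdeal ∧
      X.presheaf.germ U x hx g • z = M.presheaf.germ U x hx s := by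
  obtain ⟨W, hxW, t, rfl⟩ := TopCat.Presheaf.exists_germ_eq M.presheaf z
  obtain ⟨f, hf, hxf⟩ := hU.exists_basicOpen_le ⟨x, hxW⟩ hx
  obtain ⟨n, y, hy⟩ := exists_pow_smul_eq_mres M hU f rfl (X.basicOpen_le f) (mres M hf t)
  have hfp := (mem_basicOpen_iff_notMem_prime hU x hx f).1 hxf
  refine ⟨f ^ n, y, fun h => hfp ((hU.primeIdealOf ⟨x, hx⟩).isPrime.mem_of_pow_mem n h), ?_⟩
  have h1 := congrArg (M.presheaf.germ (X.basicOpen f) x hxf) hy
  rw [germ_mres, germ_smul', germ_mres] at h1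
  rw [h1, map_pow, map_pow]
  congr 2
  exact (TopCat.Presheaf.germ_res_apply X.presheaf (homOfLE (X.basicOpen_le f)) x hxf f).symm

include hU in
/-- A section on `U` vanishes at `x` iff it is killed by a function invertible at `x`. -/
lemma germ_eq_zero_iff (s : Γ(M, U)) :
    M.presheaf.germ U x hx s = 0 ↔
      ∃ g : Γ(X, U), g ∉ (hU.primeIdealOf ⟨x, hx⟩).asIdeal ∧ g • s = 0 := by
  constructor
  · intro h
    obtain ⟨W, hxW, i₁, i₂, he⟩ := TopCat.Presheaf.germ_eq M.presheaf x hx hx s 0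
      (h.trans (map_zero _).symm)
    obtain ⟨f, hf, hxf⟩ := hU.exists_basicOpen_le ⟨x, hxW⟩ hx
    have he' : mres M i₁.le s = 0 := he.trans (map_zero _)
    obtain ⟨n, hn⟩ := exists_pow_smul_eq_zero M hU f rfl (X.basicOpen_le f) s (by
      rw [← mres_mres M i₁.le hf s, he', map_zero])
    exact ⟨f ^ n, fun h' => (mem_basicOpen_iff_notMem_prime hU x hx f).1 hxf
      ((hU.primeIdealOf ⟨x, hx⟩).isPrime.mem_of_pow_mem n h'), hn⟩
  · rintro ⟨g, hg, h⟩
    have := congrArg (M.presheaf.germ U x hx) h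
    rw [germ_smul', map_zero] at this
    exact ((notMem_prime_iff hU x hx g).1 hg).smul_eq_zero.1 this

omit [M.IsQuasicoherent] in
/-- Associated and weakly associated points agree by definition. -/
lemma isAssPoint_iff_isWeakAssPoint :
    Curv2.IsAssPoint M x ↔ Curv2.IsWeakAssPoint M x := by
  have key : ∀ z : M.presheaf.stalk x,
      LinearMap.ker (LinearMap.toSpanSingleton (X.presheaf.stalk x) (M.presheaf.stalk x) z) =
        (⊥ : Submodule (X.presheaf.stalk x) (M.presheaf.stalk x)).colon {z} := by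
    intro z
    ext a
    simp [Submodule.mem_colon_singleton]
  constructor
  · rintro ⟨-, z, hz⟩
    exact ⟨z, by rw [key]; exact hz.symm⟩
  · rintro ⟨z, hz⟩
    rw [key] at hz
    exact ⟨(IsLocalRing.maximalIdeal.isMaximal _).isPrime, z, hz.symm⟩

omit [M.IsQuasicoherent] in
/-- Element form of being a weakly associated point. -/
lemma isWeakAssPoint_iff' :
    Curv2.IsWeakAssPoint M x ↔ ∃ z : M.presheaf.stalk x, z ≠ 0 ∧
      ∀ a ∈ IsLocalRing.maximalIdeal (X.presheaf.stalk x), ∃ n : ℕ, a ^ n • z = 0 := by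
  refine exists_congr fun z => ⟨fun h => ⟨fun hz => ?_, fun a ha => ?_⟩, fun ⟨hz, h⟩ => ?_⟩
  · subst hz
    apply (IsLocalRing.maximalIdeal.isMaximal (X.presheaf.stalk x)).ne_top
    rw [← h, Ideal.eq_top_iff_one]
    exact ⟨1, by simp⟩
  · rw [← h] at ha
    obtain ⟨n, hn⟩ := ha
    exact ⟨n, by simpa using hn⟩
  · refine le_antisymm ?_ fun a ha => ?_
    · refine (IsLocalRing.maximalIdeal.isMaximal _).isPrime.radical_le_iff.2 ?_
      refine IsLocalRing.le_maximalIdeal fun htop => hz ?_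
      have : (1 : X.presheaf.stalk x) ∈ (⊤ : Ideal (X.presheaf.stalk x)) := trivial
      rw [← htop] at this
      simpa using this
    · obtain ⟨n, hn⟩ := h a ha
      exact ⟨n, by simpa using hn⟩

include hU in
/-- A point is weakly associated iff its prime is weakly associated to the sections on `U`. -/
theorem isWeakAssPoint_iff :
    Curv2.IsWeakAssPoint M x ↔
      (hU.primeIdealOf ⟨x, hx⟩).asIdeal ∈ FlatCA.weakAss Γ(X, U) Γ(M, U) := by
  rw [isWeakAssPoint_iff', WeakAss.mem_weakAss_iff]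
  set p := (hU.primeIdealOf ⟨x, hx⟩).asIdeal with hp
  constructor
  · rintro ⟨z, hz, hpow⟩
    obtain ⟨g, s, hg, hs⟩ := exists_germ_smul_eq M hU x hx z
    have hgu := (notMem_prime_iff hU x hx g).1 hg
    refine ⟨(hU.primeIdealOf ⟨x, hx⟩).isPrime, s, fun r hr => ?_, fun a ha => ?_⟩
    · by_contra hrp
      have h0 := congrArg (M.presheaf.germ U x hx) hr
      rw [germ_smul', map_zero, ← hs, ((notMem_prime_iff hU x hx r).1 hrp).smul_eq_zero,
        hgu.smul_eq_zero] at h0
      exact hz h0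
    · obtain ⟨n, hn⟩ := hpow _ ((mem_prime_iff hU x hx a).1 ha)
      have h0 : M.presheaf.germ U x hx (a ^ n • s) = 0 := by
        rw [germ_smul', map_pow, ← hs, smul_comm, hn, smul_zero]
      obtain ⟨t, ht, htz⟩ := (germ_eq_zero_iff M hU x hx _).1 h0
      exact ⟨t, ht, n, by rwa [← smul_smul] ⟩
  · rintro ⟨-, s, h1, h2⟩
    refine ⟨M.presheaf.germ U x hx s, fun h => ?_, fun a ha => ?_⟩
    · obtain ⟨t, ht, hts⟩ := (germ_eq_zero_iff M hU x hx s).1 h
      exact ht (h1 t hts)
    · obtain ⟨g, r, hg, hr⟩ := exists_ringGerm_mul_eq hU x hx a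
      have hgu := (notMem_prime_iff hU x hx g).1 hg
      have hrp : r ∈ p := (mem_prime_iff hU x hx r).2 (hr ▸ Ideal.mul_mem_right _ _ ha)
      obtain ⟨t, ht, n, hn⟩ := h2 r hrp
      refine ⟨n, ?_⟩
      have h0 : M.presheaf.germ U x hx (r ^ n • s) = 0 :=
        (germ_eq_zero_iff M hU x hx _).2 ⟨t, ht, by rw [smul_smul]; exact hn⟩
      rw [germ_smul', map_pow, ← hr, mul_pow, mul_comm, mul_smul, (hgu.pow n).smul_eq_zero] at h0
      exact h0

include hU in
/-- A point is associated iff its prime is weakly associated to the sections on `U`. -/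
theorem mem_ass_iff_weakAss :
    x ∈ AssSch.Ass M ↔
      (hU.primeIdealOf ⟨x, hx⟩).asIdeal ∈ FlatCA.weakAss Γ(X, U) Γ(M, U) :=
  (isAssPoint_iff_isWeakAssPoint M x).trans (isWeakAssPoint_iff M hU x hx)

include hU in
/-- On a noetherian affine open, associated points are the associated primes of the sections. -/
theorem mem_ass_iff [IsNoetherianRing Γ(X, U)] :
    x ∈ AssSch.Ass M ↔
      (hU.primeIdealOf ⟨x, hx⟩).asIdeal ∈ FlatCA.ass Γ(X, U) Γ(M, U) :=
  (mem_ass_iff_weakAss M hU x hx).trans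
    ⟨fun h => WeakAss.mem_ass_of_fg (IsNoetherian.noetherian _) h,
      fun h => WeakAss.ass_subset_weakAss h⟩

include hU in
/-- The point with a given prime. -/
lemma exists_point (p : Ideal Γ(X, U)) [p.IsPrime] :
    ∃ (y : X) (hy : y ∈ U), (hU.primeIdealOf ⟨y, hy⟩).asIdeal = p := by
  refine ⟨hU.fromSpec ⟨p, inferInstance⟩, ?_, ?_⟩
  · exact hU.range_fromSpec.le ⟨_, rfl⟩
  · exact congrArg PrimeSpectrum.asIdeal
      (hU.fromSpec.isOpenEmbedding.injective (hU.fromSpec_primeIdealOf ⟨_, _⟩))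

omit [M.IsQuasicoherent] in
include hU in
lemma specializes_iff {y : X} (hy : y ∈ U) :
    y ⤳ x ↔ (hU.primeIdealOf ⟨y, hy⟩).asIdeal ≤ (hU.primeIdealOf ⟨x, hx⟩).asIdeal := by
  have h := hU.fromSpec.isOpenEmbedding.isInducing.specializes_iff
    (x := hU.primeIdealOf ⟨y, hy⟩) (y := hU.primeIdealOf ⟨x, hx⟩)
  rw [hU.fromSpec_primeIdealOf ⟨y, hy⟩, hU.fromSpec_primeIdealOf ⟨x, hx⟩] at h
  exact h.trans (PrimeSpectrum.le_iff_specializes _ _).symm

include hU in
/-- A section on `U` vanishing at all associated points in `U` is zero. -/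
theorem eq_zero_of_forall_germ (s : Γ(M, U))
    (h : ∀ y (hy : y ∈ U), y ∈ AssSch.Ass M → M.presheaf.germ U y hy s = 0) : s = 0 := by
  by_contra hne
  obtain ⟨q, hq⟩ := Ideal.nonempty_minimalPrimes (I := (Submodule.span Γ(X, U) {s}).annihilator)
    (fun htop => hne <| by
      simpa using (Submodule.mem_annihilator_span_singleton s (1 : Γ(X, U))).mp (htop ▸ trivial))
  have := hq.1.1
  obtain ⟨y, hy, rfl⟩ := exists_point hU q
  obtain ⟨t, ht, hts⟩ := (germ_eq_zero_iff M hU y hy s).1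
    (h y hy ((mem_ass_iff_weakAss M hU y hy).2 ⟨s, hq⟩))
  exact ht (hq.1.2 ((Submodule.mem_annihilator_span_singleton s t).mpr hts))

end Groth.Agent.AssPts
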