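import Groth.Agent.AssPts.Basic
import Groth.Agent.QCohBase.CohProps
import Groth.Agent.QCohBase.Qcqs

/-!
# Associated points: direct images, exact sequences, sections
-/

noncomputable section

universe u

open CategoryTheory AlgebraicGeometry Opposite TopologicalSpace Groth.Agent.QCohBase

namespace Groth.Agent.AssPts

section Alg

variable {A B : Type u} [CommRing A] [CommRing B] [Algebra A B]
  {M : Type u} [AddCommGroup M] [Module A M] [Module B M] [IsScalarTower A B M]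

/-- Weakly associated primes over `A` are contractions, for noetherian `B`. -/
theorem exists_comap_eq_of_mem_weakAss [IsNoetherianRing B] {p : Ideal A}
    (hp : p ∈ FlatCA.weakAss A M) : ∃ q ∈ FlatCA.ass B M, q.comap (algebraMap A B) = p := by
  obtain ⟨m, hm⟩ := hp
  have hpp := hm.1.1
  have hann : ∀ a : A, a ∈ (Submodule.span A {m}).annihilator ↔
      a ∈ ((Submodule.span B {m}).annihilator).comap (algebraMap A B) := fun a => by
    rw [Ideal.mem_comap, Submodule.mem_annihilator_span_singleton,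
      Submodule.mem_annihilator_span_singleton, algebraMap_smul]
  rw [show (Submodule.span A {m}).annihilator =
    (Submodule.span B {m}).annihilator.comap (algebraMap A B) from Ideal.ext hann] at hm
  obtain ⟨q, hq, hle⟩ := Ideal.exists_minimalPrimes_comap_eq (algebraMap A B) p hm
  exact ⟨q, WeakAss.mem_ass_of_fg (IsNoetherian.noetherian q) ⟨m, hq⟩, hle⟩

theorem comap_mem_ass {q : Ideal B} (hq : q ∈ FlatCA.ass B M) :
    q.comap (algebraMap A B) ∈ FlatCA.ass A M := by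
  obtain ⟨hqp, m, hm⟩ := WeakAss.mem_ass_iff.1 hq
  refine WeakAss.mem_ass_iff.2 ⟨hqp.comap _, m, fun a => ?_⟩
  rw [Ideal.mem_comap, hm, algebraMap_smul]

end Alg

variable {X Y : Scheme.{u}}

/-- Images of primes: the prime of `f x` in `V` is the contraction of the prime of `x`. -/
lemma primeIdealOf_map (f : X ⟶ Y) {U : X.Opens} (hU : IsAffineOpen U) {V : Y.Opens}
    (hV : IsAffineOpen V) (e : U ≤ f ⁻¹ᵁ V) (x : X) (hx : x ∈ U) :
    (hV.primeIdealOf ⟨f x, e hx⟩).asIdeal =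
      (hU.primeIdealOf ⟨x, hx⟩).asIdeal.comap (f.appLE V U e).hom := by
  have h := congr($(IsAffineOpen.SpecMap_appLE_fromSpec f hV hU e) (hU.primeIdealOf ⟨x, hx⟩))
  simp only [Scheme.Hom.comp_apply, hU.fromSpec_primeIdealOf] at h
  have h2 : hV.fromSpec (hV.primeIdealOf ⟨f x, e hx⟩) = f x := hV.fromSpec_primeIdealOf ⟨f x, e hx⟩
  exact congrArg PrimeSpectrum.asIdeal
    (hV.fromSpec.isOpenEmbedding.injective (h2.trans h.symm))

/-- Associated points of a direct image, over an affine open with affine noetherian preimage. -/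
theorem mem_ass_push_iff (f : X ⟶ Y) [QuasiCompact f] [QuasiSeparated f] (M : X.Modules)
    [M.IsQuasicoherent] {V : Y.Opens} (hV : IsAffineOpen V) (hU : IsAffineOpen (f ⁻¹ᵁ V))
    [IsNoetherianRing Γ(X, f ⁻¹ᵁ V)] (y : Y) (hy : y ∈ V) :
    y ∈ AssSch.Ass ((Scheme.Modules.pushforward f).obj M) ↔ ∃ x ∈ AssSch.Ass M, f x = y := by
  haveI := isQuasicoherent_pushforward M f
  rw [mem_ass_iff_weakAss _ hV y hy]
  set U := f ⁻¹ᵁ V with hUdef
  letI := (f.app V).hom.toAlgebra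
  letI : Module Γ(Y, V) Γ(M, U) := Module.compHom _ (f.app V).hom
  haveI : IsScalarTower Γ(Y, V) Γ(X, U) Γ(M, U) :=
    IsScalarTower.of_algebraMap_smul fun r x => rfl
  change (hV.primeIdealOf ⟨y, hy⟩).asIdeal ∈ FlatCA.weakAss Γ(Y, V) Γ(M, U) ↔ _
  have hmap : ∀ x (hx : x ∈ U), (hU.primeIdealOf ⟨x, hx⟩).asIdeal.comap (algebraMap Γ(Y, V) Γ(X, U))
      = (hV.primeIdealOf ⟨f x, hx⟩).asIdeal := by
    intro x hx
    rw [primeIdealOf_map f hU hV le_rfl x hx]
    change Ideal.comap (f.app V).hom _ = _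
    simp only [Scheme.Hom.app_eq_appLE]
    rfl
  constructor
  · intro h
    obtain ⟨q, hq, hqy⟩ := exists_comap_eq_of_mem_weakAss (B := Γ(X, U)) h
    haveI := hq.1
    obtain ⟨x, hx, rfl⟩ := exists_point hU q
    refine ⟨x, (mem_ass_iff M hU x hx).2 hq, ?_⟩
    rw [hmap x hx] at hqy
    have := congrArg hV.fromSpec (PrimeSpectrum.ext hqy)
    rwa [hV.fromSpec_primeIdealOf, hV.fromSpec_primeIdealOf] at this
  · rintro ⟨x, hx, rfl⟩
    rw [← hmap x hy]
    exact WeakAss.ass_subset_weakAss (comap_mem_ass ((mem_ass_iff M hU x hy).1 hx))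

/-- Affine morphisms with locally noetherian source. -/
theorem ass_push_of_isAffineHom [IsLocallyNoetherian X] (f : X ⟶ Y) [IsAffineHom f] (M : X.Modules)
    [M.IsQuasicoherent] :
    AssSch.Ass ((Scheme.Modules.pushforward f).obj M) = f '' AssSch.Ass M := by
  ext y
  obtain ⟨V, hV, hyV, -⟩ :=
    Opens.isBasis_iff_nbhd.1 Y.isBasis_affineOpens (U := ⊤) (Opens.mem_top y)
  haveI := isNoetherianRing_sections (hV.preimage f)
  exact mem_ass_push_iff f M hV (hV.preimage f) y hyV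

/-- Associated points of a direct image lie in the image of the associated points. -/
theorem ass_push_subset [IsLocallyNoetherian X] (f : X ⟶ Y) [QuasiCompact f] [QuasiSeparated f]
    (M : X.Modules) [M.IsQuasicoherent] :
    AssSch.Ass ((Scheme.Modules.pushforward f).obj M) ⊆ f '' AssSch.Ass M := by
  intro y hy
  haveI := isQuasicoherent_pushforward M f
  obtain ⟨V, hV, hyV, -⟩ :=
    Opens.isBasis_iff_nbhd.1 Y.isBasis_affineOpens (U := ⊤) (Opens.mem_top y)
  obtain ⟨s, hs, h1, h2⟩ := WeakAss.mem_weakAss_iff.1 ((mem_ass_iff_weakAss _ hV y hyV).1 hy)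
  change Γ(M, f ⁻¹ᵁ V) at hs
  set p := (hV.primeIdealOf ⟨y, hyV⟩).asIdeal with hp
  -- finitely many affine pieces of the preimage
  obtain ⟨t, htfin, ht⟩ : ∃ t : Set X.affineOpens, t.Finite ∧ ∀ x ∈ f ⁻¹ᵁ V,
      ∃ W ∈ t, W.1 ≤ f ⁻¹ᵁ V ∧ x ∈ W.1 := by
    have hc : IsCompact ((f ⁻¹ᵁ V : X.Opens) : Set X) :=
      f.isCompact_preimage hV.isCompact
    obtain ⟨t, ht⟩ := hc.elim_finite_subcover
      (fun W : {W : X.affineOpens // W.1 ≤ f ⁻¹ᵁ V} => (W.1.1 : Set X)) (fun W => W.1.1.isOpen)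
      (fun x hx => by
        obtain ⟨W, hW, hxW, hWV⟩ := Opens.isBasis_iff_nbhd.1 X.isBasis_affineOpens hx
        exact Set.mem_iUnion.2 ⟨⟨⟨W, hW⟩, hWV⟩, hxW⟩)
    refine ⟨Subtype.val '' (t : Set {W : X.affineOpens // W.1 ≤ f ⁻¹ᵁ V}),
      t.finite_toSet.image _, fun x hx => ?_⟩
    obtain ⟨W, hW, hxW⟩ := Set.mem_iUnion₂.1 (ht hx)
    exact ⟨W.1, ⟨W, hW, rfl⟩, W.2, hxW⟩
  -- the image of `s` on one of the pieces has `p` as a weakly associated prime
  by_contra hcon
  have key : ∀ (W : X.affineOpens) (e : W.1 ≤ f ⁻¹ᵁ V), ∃ g ∉ p,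
      (f.appLE V W.1 e g : Γ(X, W.1)) • mres M e hs = 0 := by
    intro W e
    by_contra hg
    push Not at hg
    letI := (f.appLE V W.1 e).hom.toAlgebra
    letI : Module Γ(Y, V) Γ(M, W.1) := Module.compHom _ (f.appLE V W.1 e).hom
    haveI : IsScalarTower Γ(Y, V) Γ(X, W.1) Γ(M, W.1) :=
      IsScalarTower.of_algebraMap_smul fun r x => rfl
    haveI := isNoetherianRing_sections W.2
    have hmem : p ∈ FlatCA.weakAss Γ(Y, V) Γ(M, W.1) := by
      refine WeakAss.mem_weakAss_iff.2 ⟨(hV.primeIdealOf ⟨y, hyV⟩).isPrime, mres M e hs,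
        fun r hr => by_contra fun hrp => hg r hrp hr, fun a ha => ?_⟩
      obtain ⟨g, hgp, n, hn⟩ := h2 a ha
      refine ⟨g, hgp, n, ?_⟩
      change (f.appLE V W.1 e (g * a ^ n) : Γ(X, W.1)) • mres M e hs = 0
      change (f.app V (g * a ^ n) : Γ(X, f ⁻¹ᵁ V)) • hs = 0 at hn
      have := congrArg (mres M e) hn
      rwa [mres_smul, map_zero] at this
    obtain ⟨q, hq, hqy⟩ := exists_comap_eq_of_mem_weakAss (B := Γ(X, W.1)) hmem
    haveI := hq.1
    obtain ⟨x, hx, rfl⟩ := exists_point W.2 q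
    refine hcon ⟨x, (mem_ass_iff M W.2 x hx).2 hq, ?_⟩
    have hpx := primeIdealOf_map f W.2 hV e x hx
    change Ideal.comap (f.appLE V W.1 e).hom _ = p at hqy
    rw [hqy] at hpx
    have := congrArg hV.fromSpec (PrimeSpectrum.ext hpx)
    rwa [hV.fromSpec_primeIdealOf, hV.fromSpec_primeIdealOf] at this
  choose g hgp hg using key
  classical
  let G : Γ(Y, V) := ∏ W ∈ htfin.toFinset, if e : W.1 ≤ f ⁻¹ᵁ V then g W e else 1
  have hG : G ∉ p := fun h => by
    obtain ⟨W, -, hW⟩ := ((hV.primeIdealOf ⟨y, hyV⟩).isPrime.prod_mem_iff).1 h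
    split_ifs at hW with e
    · exact hgp W e hW
    · exact (hV.primeIdealOf ⟨y, hyV⟩).isPrime.ne_top ((Ideal.eq_top_iff_one _).2 hW)
  refine hG (h1 G ?_)
  change (f.app V G : Γ(X, f ⁻¹ᵁ V)) • hs = 0
  choose W hWt hWle hxW using fun x : (f ⁻¹ᵁ V : X.Opens) => ht x.1 x.2
  refine TopCat.Sheaf.eq_of_locally_eq' (⟨M.presheaf, M.isSheaf⟩ : TopCat.Sheaf AddCommGrpCat X.toTopCat)
    (fun x : (f ⁻¹ᵁ V : X.Opens) => (W x).1) (f ⁻¹ᵁ V) (fun x => homOfLE (hWle x))
    (fun x hx => Opens.mem_iSup.2 ⟨⟨x, hx⟩, hxW ⟨x, hx⟩⟩) _ _ fun x => ?_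
  change mres M (hWle x) ((f.app V G : Γ(X, f ⁻¹ᵁ V)) • hs) = mres M (hWle x) 0
  rw [mres_smul, map_zero]
  change (f.appLE V (W x).1 (hWle x) G : Γ(X, (W x).1)) • mres M (hWle x) hs = 0
  obtain ⟨c, hc⟩ : g (W x) (hWle x) ∣ G := by
    have := Finset.dvd_prod_of_mem (fun W : X.affineOpens =>
      if e : W.1 ≤ f ⁻¹ᵁ V then g W e else 1) (htfin.mem_toFinset.2 (hWt x))
    simpa [hWle x] using this
  rw [hc, map_mul, mul_comm, mul_smul, hg, smul_zero]

/-- Associated points in a short exact sequence, first inclusion: monomorphisms. -/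
theorem ass_mono [IsLocallyNoetherian X] {M N : X.Modules} (φ : M ⟶ N) [Mono φ] [M.IsQuasicoherent]
    [N.IsQuasicoherent] : AssSch.Ass M ⊆ AssSch.Ass N := by
  intro x hx
  obtain ⟨V, hV, hxV, -⟩ :=
    Opens.isBasis_iff_nbhd.1 X.isBasis_affineOpens (U := ⊤) (Opens.mem_top x)
  exact (mem_ass_iff_weakAss N hV x hxV).2 (WeakAss.weakAss_mono (appL φ V)
    (app_injective_of_mono φ V) ((mem_ass_iff_weakAss M hV x hxV).1 hx))

/-- Associated points lie in `W` iff sections vanishing on `W` vanish. -/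
theorem ass_subset_iff [IsLocallyNoetherian X] (M : X.Modules) [M.IsQuasicoherent] (W : X.Opens) :
    AssSch.Ass M ⊆ (W : Set X) ↔ ∀ (V : X.Opens), IsAffineOpen V → ∀ s : Γ(M, V),
      mres M (inf_le_left : V ⊓ W ≤ V) s = 0 → s = 0 := by
  constructor
  · intro h V hV s hs
    refine eq_zero_of_forall_germ M hV s fun y hy hyA => ?_
    rw [← germ_mres M y (inf_le_left : V ⊓ W ≤ V) ⟨hy, h hyA⟩ s, hs, map_zero]
  · intro h x hx
    by_contra hxW
    obtain ⟨V, hV, hxV, -⟩ :=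
      Opens.isBasis_iff_nbhd.1 X.isBasis_affineOpens (U := ⊤) (Opens.mem_top x)
    haveI := isNoetherianRing_sections hV
    obtain ⟨hp, s, hs⟩ := WeakAss.mem_ass_iff.1 ((mem_ass_iff M hV x hxV).1 hx)
    have hs0 : mres M (inf_le_left : V ⊓ W ≤ V) s = 0 := by
      refine TopCat.Presheaf.section_ext (⟨M.presheaf, M.isSheaf⟩ : TopCat.Sheaf AddCommGrpCat X.toTopCat)
        (V ⊓ W) _ _ fun y hy => ?_
      rw [map_zero]
      refine (germ_mres M y _ hy s).trans ((germ_eq_zero_iff M hV y hy.1 s).2 ?_)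
      by_contra hcon
      push Not at hcon
      refine hxW (Specializes.mem_open ?_ W.isOpen hy.2 : x ∈ W)
      refine (specializes_iff hV y hy.1 hxV).2 fun g hg => by_contra fun hgy => ?_
      exact hcon g hgy ((hs g).1 hg)
    have h1 : (1 : Γ(X, V)) ∈ (hV.primeIdealOf ⟨x, hxV⟩).asIdeal :=
      (hs 1).2 (by rw [one_smul]; exact h V hV s hs0)
    exact hp.ne_top ((Ideal.eq_top_iff_one _).2 h1)

end Groth.Agent.AssPts
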